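import Groth.Agent.CurveLib.Deg
import Groth.Agent.CurveLib.StalkDim
import Groth.Agent.SingRRLib.Sep
import Groth.Agent.RelVALib.EmbGen
import Groth.Agent.AmpleEmb.TwistOne
import Groth.Agent.ExtStabLib.IdealSheaf
import Groth.Agent.SecMulLib.Data

/-!
# Chains in artinian quotients of local rings, sections vanishing at a point
-/

set_option autoImplicit false
set_option backward.isDefEq.respectTransparency false
set_option backward.isDefEq.respectTransparency.types false
set_option linter.style.haveILetI false

universe u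

open CategoryTheory CategoryTheory.Limits AlgebraicGeometry TopologicalSpace Opposite IsLocalRing

noncomputable section

namespace Groth.Agent.MultDeg

/-- In a Noetherian local ring of dimension at least two, powers of the maximal ideal are not absorbed
modulo a principal ideal. -/
theorem not_pow_le {R : Type u} [CommRing R] [IsLocalRing R] [IsNoetherianRing R]
    (hd : 1 < ringKrullDim R) {g : R} (hg : g ∈ maximalIdeal R) (i : ℕ) :
    ¬ maximalIdeal R ^ i ≤ Ideal.span {g} ⊔ maximalIdeal R ^ (i + 1) := by
  intro h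
  have h1 : maximalIdeal R ^ i ≤ Ideal.span {g} := by
    refine Submodule.le_of_le_smul_of_le_jacobson_bot (IsNoetherian.noetherian _)
      (IsLocalRing.maximalIdeal_le_jacobson ⊥) ?_
    rw [smul_eq_mul, ← pow_succ']
    exact h
  have hmin : maximalIdeal R ∈ (Ideal.span {g}).minimalPrimes := by
    refine ⟨⟨inferInstance, by rwa [Ideal.span_singleton_le_iff_mem]⟩, fun p hp _ => ?_⟩
    exact hp.1.le_of_pow_le (h1.trans hp.2)
  have hh := Ideal.height_le_one_of_isPrincipal_of_mem_minimalPrimes (Ideal.span {g}) _ hmin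
  rw [← IsLocalRing.maximalIdeal_height_eq_ringKrullDim] at hd
  exact absurd (WithBot.coe_le_coe.2 hh) (not_le.2 hd)

/-- A chain bound for dimensions. -/
theorem le_finrank_of_chain {k V : Type*} [Field k] [AddCommGroup V] [Module k V] [Module.Finite k V]
    (W : ℕ → Submodule k V) (m : ℕ) (h : ∀ i < m, W (i + 1) < W i) : m ≤ Module.finrank k V := by
  have : ∀ i ≤ m, Module.finrank k (W i) + i ≤ Module.finrank k (W 0) := by
    intro i hi
    induction i with
    | zero => simp
    | succ i ih =>
      have := Submodule.finrank_lt_finrank_of_lt (h i (by omega))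
      have := ih (by omega)
      omega
  have := this m le_rfl
  have := (W 0).finrank_le
  omega

variable (k : Type u) [Field k] [IsAlgClosed k] {C : Scheme.{u}} [C.Over (Spec (CommRingCat.of k))]

open PullbackMod Groth.Agent.AmpleLib in
/-- On a positive dimensional proper integral scheme with invertible module whose sections have affine
non-vanishing loci covering it, some nonzero section vanishes at a given point. -/
theorem exists_sec_vanishing [IsProper (C ↘ Spec (CommRingCat.of k))] [IsIntegral C] (hdim : ¬ topologicalKrullDim C ≤ 0)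
    {L : C.Modules} (hL : PicF.IsInvertible L) {ι : Type*} (s : ι → (Coh.structureModule C ⟶ L))
    (hc : ∀ x : C, ∃ a, x ∈ CohB1.genLocus L (s a)) (ha : ∀ a, IsAffineOpen (CohB1.genLocus L (s a)))
    {x : C} (hx : IsClosed ({x} : Set C)) :
    ∃ (t : Coh.structureModule C ⟶ L) (r : C.presheaf.stalk x), t ≠ 0 ∧ r ∈ maximalIdeal (C.presheaf.stalk x) ∧
      ∃ e : L.presheaf.stalk x, Function.Bijective (fun r : C.presheaf.stalk x => r • e) ∧
        stalkLin t x (ParaFLib.oneG x) = r • e := by
  obtain ⟨i, hi⟩ := hc x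
  have he := (mem_genLocus_iff hL).1 hi
  let e := L.presheaf.germ ⊤ x trivial (sec (s i))
  by_contra hne
  push Not at hne
  have hall : ∀ a, ∃ c : k, sec (s a) = (show Γ(C, ⊤) from Coh.toGlobal (C ↘ Spec (CommRingCat.of k)) c) • sec (s i) := by
    intro a
    obtain ⟨r, hr⟩ := he.2 (L.presheaf.germ ⊤ x trivial (sec (s a)))
    obtain ⟨c, hc⟩ := SingRRLib.exists_const_sub_mem k hx r
    refine ⟨c, ?_⟩
    by_contra hcne
    let τ : Γ(L, ⊤) := sec (s a) - (show Γ(C, ⊤) from Coh.toGlobal (C ↘ Spec (CommRingCat.of k)) c) • sec (s i)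
    refine hne (DCohLib.secHom L τ) (r - C.presheaf.germ ⊤ x trivial (Coh.toGlobal (C ↘ Spec (CommRingCat.of k)) c))
      (fun h0 => hcne (sub_eq_zero.1 ?_)) hc e he ?_
    · have := congrArg sec h0
      rw [sec_secHom] at this
      exact this.trans (by rfl)
    · rw [SecMulLib.stalkLin_secHom_oneG]
      show L.presheaf.germ ⊤ x trivial τ = _
      rw [map_sub, ParaFLib.germ_smul', sub_smul]
      exact congrArg₂ (· - ·) hr.symm rfl
  have htop : CohB1.genLocus L (s i) = ⊤ := by
    refine top_le_iff.1 fun y _ => ?_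
    obtain ⟨a, hya⟩ := hc y
    obtain ⟨c, hca⟩ := hall a
    have hb := (mem_genLocus_iff hL).1 hya
    refine (mem_genLocus_iff hL).2 ?_
    rw [hca, ParaFLib.germ_smul'] at hb
    set d := C.presheaf.germ ⊤ y trivial (show Γ(C, ⊤) from Coh.toGlobal (C ↘ Spec (CommRingCat.of k)) c)
    obtain ⟨e', he'⟩ := ParaFLib.exists_stalk_gen hL y
    obtain ⟨w, hw⟩ := he'.2 (L.presheaf.germ ⊤ y trivial (sec (s i)))
    obtain ⟨q, hq⟩ := hb.2 e'
    have hunit : IsUnit w := by
      refine IsUnit.of_mul_eq_one (q * d) (he'.1 ?_)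
      show (w * (q * d)) • e' = (1 : C.presheaf.stalk y) • e'
      rw [one_smul, mul_comm, mul_smul, mul_smul]
      exact (congrArg (fun v => q • d • v) hw).trans hq
    obtain ⟨v, rfl⟩ := hunit
    rw [show (fun r : C.presheaf.stalk y => r • L.presheaf.germ ⊤ y trivial (sec (s i))) =
        (fun r => r • e') ∘ fun r => r * v.1 from
      funext fun r => by
        show r • L.presheaf.germ ⊤ y trivial (sec (s i)) = (r * v.1) • e'
        rw [mul_smul]
        exact congrArg (r • ·) hw.symm]
    exact he'.comp v.mulRight.bijective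
  haveI : IsAffine C := by
    have h := ha i
    rw [htop] at h
    exact IsAffine.of_isIso C.topIso.inv (h := h)
  haveI : IsFinite (C ↘ Spec (CommRingCat.of k)) :=
    IsFinite.iff_isProper_and_isAffineHom.2 ⟨inferInstance, inferInstance⟩
  exact hdim (ExtStab.dim_le_zero_of_isFinite (C ↘ Spec (CommRingCat.of k)))

open PullbackMod in
/-- The degree bounds the dimension of the cokernel at a point. -/
theorem finrank_stalk_coker_le_deg [IsProper (C ↘ Spec (CommRingCat.of k))] [IsIntegral C]
    (hdim : topologicalKrullDim C ≤ 1) {L : C.Modules} (hL : PicF.IsInvertible L)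
    {t : Coh.structureModule C ⟶ L} (ht : t ≠ 0) {x : C} (hxs : ¬ Subsingleton ((cokernel t).presheaf.stalk x)) :
    Module.Finite k (CurveLib.KStalk k (cokernel t) x) ∧
      (Module.finrank k (CurveLib.KStalk k (cokernel t) x) : ℤ) ≤ Curv2.deg k C L 1 := by
  classical
  haveI := EulerIneqLib.isNoetherian_proper (X := C) k
  obtain ⟨he, hC, hd, hQ, -⟩ := CurveLib.deg_eq_add_coker (k := k) hdim ParaFLib.isInvertible_structureModule hL ht
  rw [CurveLib.deg_structureModule, zero_add] at he
  obtain ⟨a⟩ := CurveLib.exists_equiv_pi (k := k) hC subset_rfl hd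
  haveI := EulerIneqLib.finite_HH (k := k) hQ 0
  let p : Coh.HH C (cokernel t) 0 →ₗ[k] CurveLib.KStalk k (cokernel t) x :=
    (LinearMap.proj (⟨x, hxs⟩ : CohB1.support (cokernel t))).comp a.toLinearMap
  have hp : Function.Surjective p := fun v => by
    refine ⟨a.symm (Pi.single (⟨x, hxs⟩ : CohB1.support (cokernel t)) v), ?_⟩
    simp [p]
  exact ⟨Module.Finite.of_surjective p hp,
    he ▸ Int.ofNat_le.2 (LinearMap.finrank_le_finrank_of_surjective hp)⟩

end Groth.Agent.MultDeg
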